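import Mathlib
import Cfsg.Agent.Lib.Helper71.Sym.Words

set_option autoImplicit false

/-!
Package B3 of the symmetric S3-amalgam lemma: the critical distance `b ≥ 3` is impossible.
-/

namespace Cfsg.Agent.Lib.Helper11.Sym

open Cfsg.Agent.Lib.Helper71.Sym

universe u

theorem pkgB3 : PkgB3.{u} := by
  intro G _ _ H T Q x hA hZF w hLoc k hcrit hCR hC7 hSB hSF hc
  obtain ⟨⟨g, hgW, hgcrit⟩, -⟩ := hcrit
  obtain ⟨u1, hu1, h', hh', rfl⟩ := wd_succ.1 hgW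
  obtain ⟨u0, hu0, h, hh, rfl⟩ := wd_succ.1 hu1
  obtain ⟨h₁, hh₁, h₂, hh₂, h₁T, h₂T, h12⟩ := hZF.two_cosets
  -- two back slides
  have hb1 : ¬ Zs H T ≤ cj (x * h₁ * (u0 * h * x)) Q :=
    hSB (u0 * h * x) hu1 h' hh' hgcrit h₁ hh₁ h₁T
  have hb1' : ¬ Zs H T ≤ cj ((x * h₁ * u0) * h * x) Q := by
    have e : (x * h₁ * u0) * h * x = x * h₁ * (u0 * h * x) := by group
    rw [e]; exact hb1
  have hu' : x * h₁ * u0 ∈ Wd H x (k + 1) := wd_left_mem hu0 hh₁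
  have hb2 : ¬ Zs H T ≤ cj (x * h₁ * (x * h₁ * u0)) Q :=
    hSB (x * h₁ * u0) hu' h hh hb1' h₁ hh₁ h₁T
  -- two forward slides
  have hf1 : ∀ a ∈ H, a ∉ T → ¬ Zs H T ≤ cj ((x * h₁ * u0) * a * x) Q := fun a ha haT =>
    hSF (x * h₁ * u0) hu' h₁ hh₁ hb2 a ha haT
  have hf2 : ∀ a ∈ H, a ∉ T → ∀ a' ∈ H, a' ∉ T →
      ¬ Zs H T ≤ cj ((u0 * a * x) * a' * x) Q := by
    intro a ha haT a' ha' ha'T
    have hua : u0 * a * x ∈ Wd H x (k + 1) := wd_succ_mem hu0 ha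
    have h1 : ¬ Zs H T ≤ cj (x * h₁ * (u0 * a * x)) Q := by
      have e : x * h₁ * (u0 * a * x) = (x * h₁ * u0) * a * x := by group
      rw [e]; exact hf1 a ha haT
    exact hSF (u0 * a * x) hua h₁ hh₁ h1 a' ha' ha'T
  -- `w` is centralized by `u0 * a` for every `a ∈ H ∖ T`
  have hcH : ∀ y ∈ H, y * (x * w * x⁻¹) = (x * w * x⁻¹) * y := by
    intro y hy
    exact Subgroup.mem_centralizer_iff.mp (Subgroup.mem_inf.mp hc).2 y hy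
  have hx2w : (x * x) * w = w * (x * x) := hLoc.w_T _ hA.hx2
  have e1 : (x * h₁ * x) * w * (x * h₁ * x)⁻¹ = w := by
    calc (x * h₁ * x) * w * (x * h₁ * x)⁻¹
        = x * (h₁ * (x * w * x⁻¹)) * h₁⁻¹ * x⁻¹ := by group
      _ = x * ((x * w * x⁻¹) * h₁) * h₁⁻¹ * x⁻¹ := by rw [hcH h₁ hh₁]
      _ = ((x * x) * w) * (x * x)⁻¹ := by group
      _ = (w * (x * x)) * (x * x)⁻¹ := by rw [hx2w]
      _ = w := by group
  have hcent : ∀ a ∈ H, a ∉ T → (u0 * a) * w * (u0 * a)⁻¹ = w := by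
    intro a ha haT
    have hg' : (u0 * a * x) * h₁ * x ∈ Wd H x (k + 2) :=
      wd_succ_mem (wd_succ_mem hu0 ha) hh₁
    have hc7 := (hC7 _ hg' (hf2 a ha haT h₁ hh₁ h₁T)).cent
    have e2 : (u0 * a * x) * h₁ * x = (u0 * a) * (x * h₁ * x) := by group
    rw [e2] at hc7
    calc (u0 * a) * w * (u0 * a)⁻¹
        = (u0 * a) * ((x * h₁ * x) * w * (x * h₁ * x)⁻¹) * (u0 * a)⁻¹ := by rw [e1]
      _ = ((u0 * a) * (x * h₁ * x) * w) * ((u0 * a) * (x * h₁ * x))⁻¹ := by group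
      _ = (w * ((u0 * a) * (x * h₁ * x))) * ((u0 * a) * (x * h₁ * x))⁻¹ := by rw [hc7]
      _ = w := by group
  have c1 := hcent h₁ hh₁ h₁T
  have c2 := hcent h₂ hh₂ h₂T
  apply h12
  apply hLoc.w_cent _ (H.mul_mem (H.inv_mem hh₁) hh₂)
  have e3 : h₁ * w * h₁⁻¹ = h₂ * w * h₂⁻¹ := by
    calc h₁ * w * h₁⁻¹ = u0⁻¹ * ((u0 * h₁) * w * (u0 * h₁)⁻¹) * u0 := by group
      _ = u0⁻¹ * ((u0 * h₂) * w * (u0 * h₂)⁻¹) * u0 := by rw [c1, c2]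
      _ = h₂ * w * h₂⁻¹ := by group
  calc h₁⁻¹ * h₂ * w = h₁⁻¹ * (h₂ * w * h₂⁻¹) * h₂ := by group
    _ = h₁⁻¹ * (h₁ * w * h₁⁻¹) * h₂ := by rw [e3]
    _ = w * (h₁⁻¹ * h₂) := by group

end Cfsg.Agent.Lib.Helper11.Sym
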